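import Cfsg.Agent.Lib.SmallGroups.Order5616.Chars
import Cfsg.Agent.Lib.Char.GLTwoThreeCentralizer
import Cfsg.Agent.Lib.Recognition.GLTwoThree.Iso

/-!
# The simple group of order 5616 is unique

Class sums against an element of order thirteen give `χ₂₇(t) = 3`, `|C(t)| = 48`, one class of
involutions and `|C(tx)| = 6`; the frame of `GLTwoThree` follows.
-/

set_option autoImplicit false

namespace CfsgLib.SmallGroups.Order5616

open Cfsg CfsgLib.Blocks CfsgLib.KGroups.M11Tools Subgroup
open CfsgLib.SmallGroups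
open scoped _root_.Classical ComplexConjugate

section Chars

variable {G : Type*} [Group G] [Fintype G] [IsSimpleGroup G] (hG : Nat.card G = 5616) (K : Chars G)

omit [IsSimpleGroup G] in
theorem exists_int_value (χ : IrrCharacter G) {t : G} (ht : orderOf t = 2) :
    ∃ v : ℤ, (χ : G → ℂ) t = v := by
  obtain ⟨μ, hμ, hval⟩ := exists_roots χ t
  rw [ht] at hμ
  refine ⟨∑ a, if μ a = 1 then (1 : ℤ) else -1, ?_⟩
  rw [← pow_one t, hval 1]
  push_cast
  refine Finset.sum_congr rfl fun a _ => ?_
  rcases sq_eq_one_iff.mp (hμ a) with h | h <;> rw [pow_one, h] <;> norm_num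

include hG in
theorem apply_Y {g : G} (hg : 2 ∣ orderOf g) {θ : IrrCharacter G} (hθ : θ ∈ K.Y) : (θ : G → ℂ) g = 0 :=
  vanish θ Nat.prime_two (n := 4) (by rw [hG]; norm_num) (by rw [hG]; norm_num)
    (by rw [K.dY θ hθ]; norm_num) hg

include hG in
theorem apply_b {g : G} (hg : 3 ∣ orderOf g) : (K.χb : G → ℂ) g = 0 :=
  vanish K.χb Nat.prime_three (n := 3) (by rw [hG]; norm_num) (by rw [hG]; norm_num)
    (by rw [K.db]; norm_num) hg

include hG in
/-- A class sum against the element of order thirteen only sees three characters. -/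
theorem sum_triple {g h : G} (hh : 2 ∣ orderOf h) :
    ∑ χ : IrrCharacter G, (χ : G → ℂ) h * (χ : G → ℂ) g * conj ((χ : G → ℂ) K.u) / (χ : G → ℂ) 1 =
      1 - (K.χa : G → ℂ) h * (K.χa : G → ℂ) g / 12 + (K.χb : G → ℂ) h * (K.χb : G → ℂ) g / 27 := by
  have hs : (Finset.univ : Finset (IrrCharacter G)).filter
      (fun χ => χ = trivChar G ∨ χ = K.χa ∨ χ = K.χb) = {trivChar G, K.χa, K.χb} := by
    ext χ; simp
  rw [← Finset.sum_filter_of_ne (p := fun χ : IrrCharacter G => χ = trivChar G ∨ χ = K.χa ∨ χ = K.χb)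
    (fun χ _ hne => ?_), hs, Finset.sum_insert (by simp [Ne.symm K.ha1, Ne.symm K.hb1]), Finset.sum_pair K.hab]
  · simp only [irr_one_eq, K.da, K.db, K.ua, K.ub, trivChar_apply, map_one, map_neg, Nat.cast_ofNat,
      show charDegree ((trivChar G : IrrCharacter G) : G → ℂ) = 1 by simp [charDegree], Nat.cast_one]
    ring
  · by_contra hc
    push Not at hc
    by_cases hY : χ ∈ K.Y
    · exact hne (by rw [apply_Y hG K hh hY]; simp)
    · exact hne (by rw [K.out χ hc.1 hc.2.1 hc.2.2 hY]; simp)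

include hG in
theorem not_thirteen_two {t : G} (ht : orderOf t = 2) : ¬ 13 ∣ orderOf t := by
  rw [ht]; norm_num

include hG in
/-- The values at an involution. -/
theorem involution_values {t : G} (ht : orderOf t = 2) :
    (K.χb : G → ℂ) t = 3 ∧ (K.χa : G → ℂ) t = 4 := by
  haveI : Fact (Nat.Prime 13) := ⟨by norm_num⟩
  obtain ⟨θ, hθ⟩ : K.Y.Nonempty := Finset.card_pos.1 (by rw [K.cY]; norm_num)
  have hr := K.rel θ hθ t (not_thirteen_two hG ht)
  rw [apply_Y hG K (by rw [ht]) hθ] at hr
  obtain ⟨b, hb⟩ := exists_int_value K.χb ht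
  have ha : (K.χa : G → ℂ) t = 1 + (b : ℂ) := by rw [← hb]; linear_combination hr
  have hempty : Nat.card {v : G // IsConj v t ∧ IsConj (v⁻¹ * K.u) t} = 0 := by
    refine Nat.card_eq_zero.mpr (Or.inl ⟨fun ⟨v, hv, hw⟩ => ?_⟩)
    have hv2 : v ^ 2 = 1 := by
      obtain ⟨c, hc⟩ := isConj_iff.mp hv.symm
      rw [← hc, conj_pow, ← ht, pow_orderOf_eq_one, mul_one, mul_inv_cancel]
    have hw2 : (v⁻¹ * K.u) ^ 2 = 1 := by
      obtain ⟨c, hc⟩ := isConj_iff.mp hw.symm
      rw [← hc, conj_pow, ← ht, pow_orderOf_eq_one, mul_one, mul_inv_cancel]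
    refine not_inverted hG K.hu hv2 ?_
    have hvi : v⁻¹ = v := inv_eq_of_mul_eq_one_right (by rw [← pow_two, hv2])
    rw [hvi, pow_two] at hw2
    rw [hvi]
    exact eq_inv_of_mul_eq_one_left (by rw [← hw2]; group)
  have h := CfsgLib.Char.card_class_pairs t t K.u
  rw [hempty, sum_triple hG K (by rw [ht]), ha, hb] at h
  have hG0 : (Nat.card G : ℂ) ≠ 0 := Nat.cast_ne_zero.mpr Nat.card_pos.ne'
  simp only [Nat.cast_zero, zero_mul] at h
  have h1 := (mul_eq_zero.mp h.symm).resolve_left hG0
  have h2 : (((5 * b + 33) * (b - 3) : ℤ) : ℂ) = 0 := by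
    push_cast
    linear_combination (-108 : ℂ) * h1
  have h3 : (5 * b + 33) * (b - 3) = 0 := by exact_mod_cast h2
  have hb3 : b = 3 := by
    rcases mul_eq_zero.mp h3 with h | h <;> omega
  refine ⟨by rw [hb, hb3]; norm_num, by rw [ha, hb3]; norm_num⟩

include hG in
theorem card_centralizer_involution {t : G} (ht : orderOf t = 2) :
    Nat.card (centralizer ({t} : Set G)) = 48 := by
  haveI : Fact (Nat.Prime 13) := ⟨by norm_num⟩
  obtain ⟨K⟩ := exists_chars hG
  obtain ⟨hb, ha⟩ := involution_values hG K ht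
  have hdiv := degree_dvd_index_mul K.χb t (v := 3) (by rw [hb]; norm_num)
  rw [K.db] at hdiv
  have hidx := (centralizer ({t} : Set G)).index_mul_card
  rw [hG] at hidx
  set C := Nat.card (centralizer ({t} : Set G)) with hC
  set i := (centralizer ({t} : Set G)).index with hi
  have h9 : 9 ∣ i := by
    have h27 : 27 ∣ i * 3 := by exact_mod_cast hdiv
    omega
  have h624 : C ∣ 624 := by
    obtain ⟨k, hk⟩ := h9
    refine ⟨k, ?_⟩
    rw [hk, mul_assoc] at hidx
    linarith
  have h13 : ¬ 13 ∣ C := fun h => by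
    obtain ⟨y, hy, hy13⟩ := OrdersMid.exists_mem_of_dvd (q := 13) _ h
    have ht' : t ∈ centralizer ({y} : Set G) :=
      mem_centralizer_singleton_iff.mpr (mem_centralizer_singleton_iff.mp hy).symm
    have := Subgroup.orderOf_dvd_natCard _ ht'
    rw [centralizer_thirteen hG hy13, ht] at this
    norm_num at this
  have h48 : C ∣ 48 :=
    (Nat.Coprime.symm ((Fact.out : Nat.Prime 13).coprime_iff_not_dvd.mpr h13)).dvd_of_dvd_mul_right
      (by norm_num; exact h624)
  have hge : (26 : ℝ) ≤ C := by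
    have h := Finset.sum_le_sum_of_subset_of_nonneg
      (f := fun χ : IrrCharacter G => ‖(χ : G → ℂ) t‖ ^ 2)
      (Finset.subset_univ {trivChar G, K.χa, K.χb}) (fun _ _ _ => by positivity)
    rw [sum_norm_sq_column, ← hC, Finset.sum_insert (by simp [Ne.symm K.ha1, Ne.symm K.hb1]),
      Finset.sum_pair K.hab, ha, hb, trivChar_apply] at h
    norm_num at h ⊢
    linarith
  have hge' : 26 ≤ C := by exact_mod_cast hge
  have key : ∀ d ∈ Nat.divisors 48, 26 ≤ d → d = 48 := by decide +kernel
  exact key C (Nat.mem_divisors.mpr ⟨h48, by norm_num⟩) hge'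

include hG in
theorem isConj_involutions {t t' : G} (ht : orderOf t = 2) (ht' : orderOf t' = 2) : IsConj t t' := by
  obtain ⟨K⟩ := exists_chars hG
  by_contra hne
  choose v hv using fun χ : IrrCharacter G => exists_int_value χ ht
  choose w hw using fun χ : IrrCharacter G => exists_int_value χ ht'
  have h1 := CfsgLib.Char.sum_irr_mul_conj t t
  have h2 := CfsgLib.Char.sum_irr_mul_conj t' t'
  have h3 := CfsgLib.Char.sum_irr_mul_conj t t'
  rw [if_pos (IsConj.refl t), card_centralizer_involution hG ht] at h1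
  rw [if_pos (IsConj.refl t'), card_centralizer_involution hG ht'] at h2
  rw [if_neg hne] at h3
  simp only [hv, hw, map_intCast, ← Int.cast_mul, ← Int.cast_sum] at h1 h2 h3
  have e1 : ∑ χ, v χ * v χ = 48 := by exact_mod_cast h1
  have e2 : ∑ χ, w χ * w χ = 48 := by exact_mod_cast h2
  have e3 : ∑ χ, v χ * w χ = 0 := by exact_mod_cast h3
  have htot : ∑ χ, (v χ + w χ) ^ 2 = 96 := by
    rw [Finset.sum_congr rfl (g := fun χ => v χ * v χ + 2 * (v χ * w χ) + w χ * w χ) fun χ _ => by ring,
      Finset.sum_add_distrib, Finset.sum_add_distrib, ← Finset.mul_sum, e1, e2, e3]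
    norm_num
  obtain ⟨hbt, hat⟩ := involution_values hG K ht
  obtain ⟨hbt', hat'⟩ := involution_values hG K ht'
  have va : v K.χa = 4 := by exact_mod_cast ((hv K.χa).symm.trans hat)
  have wa : w K.χa = 4 := by exact_mod_cast ((hw K.χa).symm.trans hat')
  have vb : v K.χb = 3 := by exact_mod_cast ((hv K.χb).symm.trans hbt)
  have wb : w K.χb = 3 := by exact_mod_cast ((hw K.χb).symm.trans hbt')
  have v1 : v (trivChar G) = 1 := by exact_mod_cast ((hv (trivChar G)).symm.trans (trivChar_apply t))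
  have w1 : w (trivChar G) = 1 := by exact_mod_cast ((hw (trivChar G)).symm.trans (trivChar_apply t'))
  have h := Finset.sum_le_sum_of_subset_of_nonneg (f := fun χ : IrrCharacter G => (v χ + w χ) ^ 2)
    (Finset.subset_univ {trivChar G, K.χa, K.χb}) (fun _ _ _ => by positivity)
  rw [htot, Finset.sum_insert (by simp [Ne.symm K.ha1, Ne.symm K.hb1]), Finset.sum_pair K.hab,
    va, wa, vb, wb, v1, w1] at h
  norm_num at h

include hG in
theorem orderOf_six {t x : G} (ht : orderOf t = 2) (hx : orderOf x = 3) (htx : t * x = x * t) :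
    orderOf (t * x) = 6 := by
  rw [Commute.orderOf_mul_eq_mul_orderOf_of_coprime htx (by rw [ht, hx]; norm_num), ht, hx]

include hG in
/-- The centraliser of a product of commuting elements of orders two and three. -/
theorem card_centralizer_six {t x : G} (ht : orderOf t = 2) (hx : orderOf x = 3) (htx : t * x = x * t) :
    Nat.card (centralizer ({t * x} : Set G)) ∣ 6 := by
  haveI : Fact (Nat.Prime 13) := ⟨by norm_num⟩
  obtain ⟨K⟩ := exists_chars hG
  have hg := orderOf_six hG ht hx htx
  obtain ⟨θ, hθ⟩ : K.Y.Nonempty := Finset.card_pos.1 (by rw [K.cY]; norm_num)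
  have hr := K.rel θ hθ (t * x) (by rw [hg]; norm_num)
  rw [apply_Y hG K (by rw [hg]; norm_num) hθ, apply_b hG K (by rw [hg]; norm_num), add_zero] at hr
  have ha : (K.χa : G → ℂ) (t * x) = 1 := by linear_combination hr
  have h := CfsgLib.Char.card_class_pairs t (t * x) K.u
  rw [sum_triple hG K (by rw [ht]), ha, apply_b hG K (g := t * x) (by rw [hg]; norm_num),
    (involution_values hG K ht).2, card_centralizer_involution hG ht, hG] at h
  set N := Nat.card {v : G // IsConj v t ∧ IsConj (v⁻¹ * K.u) (t * x)}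
  set C := Nat.card (centralizer ({t * x} : Set G))
  have h' : ((N * C : ℕ) : ℂ) = ((78 : ℕ) : ℂ) := by
    push_cast at h ⊢
    linear_combination h / 48
  have h78 : C ∣ 78 := ⟨N, by rw [mul_comm]; exact_mod_cast h'.symm⟩
  have h48 : C ∣ 48 := by
    rw [← card_centralizer_involution hG ht]
    refine card_dvd_of_le fun y hy => mem_centralizer_singleton_iff.mpr ?_
    have hc : Commute y (t * x) := mem_centralizer_singleton_iff.mp hy
    have ht3 : (t * x) ^ 3 = t := by
      rw [(show Commute t x from htx).mul_pow, ← hx, pow_orderOf_eq_one, mul_one, hx, pow_succ,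
        show (t ^ 2 : G) = 1 by rw [← ht, pow_orderOf_eq_one], one_mul]
    rw [← ht3]
    exact (hc.pow_right 3).eq
  exact Nat.dvd_gcd h78 h48

end Chars

section Local

variable {G : Type*} [Group G] [Finite G] [IsSimpleGroup G] (hG : Nat.card G = 5616)

include hG in
theorem not_nine_involution {y : G} (hy : orderOf y = 2) {D : Subgroup G} (hD : Nat.card D = 9)
    (hc : D ≤ centralizer ({y} : Set G)) : False := by
  cases nonempty_fintype G
  have := card_dvd_of_le hc
  rw [hD, card_centralizer_involution hG hy] at this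
  norm_num at this

include hG in
theorem sylow_three_not_comm [Fact (Nat.Prime 3)] (P : Sylow 3 G) : ¬ IsMulCommutative (P : Subgroup G) := by
  intro hab
  cases nonempty_fintype G
  have hna := not_comm hG
  have hcard : ∀ Q : Sylow 3 G, Nat.card (Q : Subgroup G) = 3 ^ 3 :=
    SimpleTools.card_sylow_subgroup (m := 208) (by rw [hG]; norm_num) (by norm_num)
  have hall : ∀ Q : Sylow 3 G, IsMulCommutative (Q : Subgroup G) := fun Q =>
    ⟨⟨fun a b => (P.equiv Q).symm.injective (by rw [map_mul, map_mul]; exact mul_comm' _ _)⟩⟩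
  have hmem := SimpleTools.card_sylow_mem (p := 3) (k := 3) (m := 208) (G := G) (by rw [hG]; norm_num) (by norm_num)
  rw [show (208 : ℕ).divisors.filter (fun n => n % 3 = 1) = {1, 4, 13, 16, 52, 208} from by decide +kernel] at hmem
  by_cases hn : Nat.card (Sylow 3 G) ≡ 1 [MOD 3 ^ 2]
  · have hne := SimpleTools.card_sylow_ne_one (p := 3) hna (hG ▸ by norm_num)
    simp only [Finset.mem_insert, Finset.mem_singleton] at hmem
    have h208 : Nat.card (Sylow 3 G) = 208 := by
      rw [Nat.ModEq] at hn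
      rcases hmem with h | h | h | h | h | h <;> rw [h] at hn hne <;> first | exact h | omega
    have hmul := SimpleTools.card_normalizer_mul P
    rw [h208, hG] at hmul
    have hNP : normalizer ((P : Subgroup G) : Set G) = (P : Subgroup G) :=
      (eq_of_le_of_card_ge le_normalizer (by rw [hcard P]; omega)).symm
    refine SimpleTools.not_normalizer_le hna (p := 3) (hG ▸ by norm_num) P ?_
    rw [hNP]
    exact fun a ha => mem_centralizer_iff.mpr fun b hb =>
      congrArg Subtype.val (mul_comm' (⟨b, hb⟩ : (P : Subgroup G)) ⟨a, ha⟩)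
  · obtain ⟨Q, R, D, hQR, hDQ, hDR, hD, hNt, -, -⟩ := OrdersMid.exists_meet hna (p := 3) (m := 208) (a := 3)
      (by rw [hG]; norm_num) (by norm_num) (by norm_num) hn
    have hD9 : Nat.card D = 9 := by omega
    have hle : ∀ S : Sylow 3 G, D ≤ (S : Subgroup G) → (S : Subgroup G) ≤ centralizer (D : Set G) :=
      fun S hS a ha => mem_centralizer_iff.mpr fun b hb => by
        have := hall S
        exact congrArg Subtype.val (mul_comm' (⟨b, hS hb⟩ : (S : Subgroup G)) ⟨a, ha⟩)
    have h27 := card_dvd_of_le (hle Q hDQ)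
    rw [hcard Q] at h27
    have hd := card_subgroup_dvd_card (centralizer (D : Set G))
    rw [hG] at hd
    have hy2 : ¬ 2 ∣ Nat.card (centralizer (D : Set G)) := fun h => by
      haveI : Fact (Nat.Prime 2) := ⟨Nat.prime_two⟩
      obtain ⟨y, hy, hy2⟩ := OrdersMid.exists_mem_of_dvd (q := 2) _ h
      exact not_nine_involution hG hy2 hD9 fun d hd' =>
        mem_centralizer_singleton_iff.mpr (mem_centralizer_iff.mp hy d hd')
    have h13 : ¬ 13 ∣ Nat.card (centralizer (D : Set G)) := fun h => by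
      haveI : Fact (Nat.Prime 13) := ⟨by norm_num⟩
      obtain ⟨y, hy, hy13⟩ := OrdersMid.exists_mem_of_dvd (q := 13) _ h
      have hc : D ≤ centralizer ({y} : Set G) := fun d hd' =>
        mem_centralizer_singleton_iff.mpr (mem_centralizer_iff.mp hy d hd')
      have := card_dvd_of_le hc
      rw [hD9, centralizer_thirteen hG hy13] at this
      norm_num at this
    have hcop : (Nat.card (centralizer (D : Set G))).Coprime 208 := by
      rw [show (208 : ℕ) = 2 ^ 4 * 13 by norm_num]
      exact Nat.Coprime.mul_right (Nat.Coprime.pow_right 4 (Nat.prime_two.coprime_iff_not_dvd.mpr hy2).symm)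
        ((Nat.Prime.coprime_iff_not_dvd (by norm_num)).mpr h13).symm
    have hd27 : Nat.card (centralizer (D : Set G)) ∣ 27 :=
      hcop.dvd_of_dvd_mul_right (show _ ∣ 27 * 208 from hd)
    have heq : Nat.card (centralizer (D : Set G)) = 27 := Nat.dvd_antisymm hd27 h27
    have e1 := eq_of_le_of_card_ge (hle Q hDQ) (by rw [hcard Q, heq]; norm_num)
    have e2 := eq_of_le_of_card_ge (hle R hDR) (by rw [hcard R, heq]; norm_num)
    exact hQR (Sylow.ext (e1.trans e2.symm))

include hG in
theorem exists_inverting_involution {t x : G} (ht : orderOf t = 2) (hx : orderOf x = 3) (htx : t * x = x * t) :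
    ∃ s : G, orderOf s = 2 ∧ s ≠ t ∧ t * s = s * t ∧ s * x * s⁻¹ = x⁻¹ := by
  cases nonempty_fintype G
  haveI : Fact (Nat.Prime 3) := ⟨Nat.prime_three⟩
  haveI : Fact (Nat.Prime 2) := ⟨Nat.prime_two⟩
  have hna := not_comm hG
  have ht2 : t ^ 2 = 1 := ht ▸ pow_orderOf_eq_one t
  have hti : t⁻¹ = t := inv_eq_of_mul_eq_one_right (by rw [← pow_two, ht2])
  have h6 := card_centralizer_six hG ht hx htx
  have hg6 := orderOf_six hG ht hx htx
  set C := centralizer ({t} : Set G) with hCdef
  have hC : Nat.card C = 48 := card_centralizer_involution hG ht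
  have hboth : ∀ g : G, g * t = t * g → g * x = x * g → g ∈ centralizer ({t * x} : Set G) := fun g h1 h2 =>
    mem_centralizer_singleton_iff.mpr ((show Commute g t from h1).mul_right h2).eq
  -- some element of `C` inverts `x`
  obtain ⟨g, hgt, hgx⟩ : ∃ g : G, g * t = t * g ∧ g * x * g⁻¹ = x⁻¹ := by
    have hxC : x ∈ C := mem_centralizer_singleton_iff.mpr htx.symm
    have htC : t ∈ C := mem_centralizer_singleton_iff.mpr rfl
    set x' : C := ⟨x, hxC⟩
    have hx' : orderOf x' = 3 := by rw [← orderOf_coe]; exact hx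
    have hall : ∀ Q : Sylow 3 C, Nat.card (Q : Subgroup C) = 3 := fun Q =>
      (SimpleTools.card_sylow_subgroup (k := 1) (m := 16) (by rw [hC]; norm_num) (by norm_num) Q).trans (pow_one 3)
    obtain ⟨Q, hQ⟩ := TwoClass.exists_zpowers hx' hall
    have hmem := SimpleTools.card_sylow_mem (p := 3) (k := 1) (m := 16) (G := C) (by rw [hC]; norm_num) (by norm_num)
    rw [show (16 : ℕ).divisors.filter (fun n => n % 3 = 1) = {1, 4, 16} from by decide +kernel] at hmem
    have hmul := SimpleTools.card_normalizer_mul Q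
    rw [hC] at hmul
    have htxC : (⟨t * x, mul_mem htC hxC⟩ : C) ∈ normalizer ((Q : Subgroup C) : Set C) := by
      refine centralizer_le_normalizer _ ?_
      rw [← hQ, TwoClass.centralizer_zpowers]
      refine mem_centralizer_singleton_iff.mpr (Subtype.ext ?_)
      show t * x * x = x * (t * x)
      rw [← mul_assoc, ← htx]
    have h6N := Subgroup.orderOf_dvd_natCard _ htxC
    rw [← orderOf_coe, hg6] at h6N
    obtain ⟨n, hn, hnc⟩ : ∃ n ∈ normalizer ((Q : Subgroup C) : Set C), (n : G) * x ≠ x * n := by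
      by_contra hno
      push Not at hno
      have hle : (normalizer ((Q : Subgroup C) : Set C)).map C.subtype ≤ centralizer ({t * x} : Set G) := by
        rintro _ ⟨n, hn, rfl⟩
        exact hboth _ (mem_centralizer_singleton_iff.mp n.2) (hno n hn)
      have hd := (card_dvd_of_le hle).trans h6
      rw [card_map_of_injective C.subtype_injective] at hd
      simp only [Finset.mem_insert, Finset.mem_singleton] at hmem
      have := Nat.le_of_dvd (by norm_num) hd
      have := Nat.le_of_dvd Nat.card_pos h6N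
      rcases hmem with e | e | e <;> rw [e] at hmul <;> omega
    refine ⟨n, mem_centralizer_singleton_iff.mp n.2, ?_⟩
    have hcx : n * x' * n⁻¹ ∈ zpowers x' := hQ ▸ (mem_normalizer_iff.mp hn x').mp (hQ ▸ mem_zpowers x')
    rw [mem_zpowers_iff_mem_range_orderOf, hx'] at hcx
    simp only [Finset.mem_image, Finset.mem_range] at hcx
    obtain ⟨i, hi, he⟩ := hcx
    have he' : x ^ i = n * x * (n : G)⁻¹ := congrArg Subtype.val he
    have hx1 : x ≠ 1 := fun h => by rw [h, orderOf_one] at hx; omega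
    interval_cases i
    · exact absurd (conj_eq_one_iff.mp ((pow_zero x) ▸ he'.symm)) hx1
    · exact absurd (by rw [← mul_inv_eq_iff_eq_mul, ← he', pow_one]) hnc
    · rw [← he']
      exact eq_inv_of_mul_eq_one_left (by rw [← pow_succ]; exact orderOf_dvd_iff_pow_eq_one.mp (by rw [hx]))
  -- a two-element that inverts
  obtain ⟨j, m, hm, hgo⟩ := Nat.exists_eq_pow_mul_and_not_dvd (orderOf_pos g).ne' 2 (by norm_num)
  set f := g ^ m with hf
  have hft : f * t = t * f := ((show Commute g t from hgt).pow_left m).eq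
  have hfx : f * x * f⁻¹ = x⁻¹ := by
    have key : ∀ k : ℕ, g ^ k * x * (g ^ k)⁻¹ = if Even k then x else x⁻¹ := by
      intro k
      induction k with
      | zero => simp
      | succ k ih =>
        rw [pow_succ', mul_inv_rev, show g * g ^ k * x * ((g ^ k)⁻¹ * g⁻¹) = g * (g ^ k * x * (g ^ k)⁻¹) * g⁻¹ by group, ih]
        by_cases hk : Even k
        · rw [if_pos hk, if_neg (by simpa [Nat.even_add_one] using hk), hgx]
        · rw [if_neg hk, if_pos (by simpa [Nat.even_add_one] using hk), ← conj_inv, hgx, inv_inv]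
    rw [hf, key, if_neg (fun h => hm h.two_dvd)]
  have hfo : f ^ 2 ^ j = 1 := by rw [hf, ← pow_mul, mul_comm, ← hgo, pow_orderOf_eq_one]
  have hf2C : f ^ 2 ∈ centralizer ({t * x} : Set G) := by
    refine hboth _ ((show Commute f t from hft).pow_left 2).eq ?_
    have h2 : f ^ 2 * x * (f ^ 2)⁻¹ = x := by
      rw [pow_two, mul_inv_rev, show f * f * x * (f⁻¹ * f⁻¹) = f * (f * x * f⁻¹) * f⁻¹ by group, hfx,
        ← conj_inv, hfx, inv_inv]
    exact mul_inv_eq_iff_eq_mul.mp h2
  have hf4 : (f ^ 2) ^ 2 = 1 := by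
    have hd := (Subgroup.orderOf_dvd_natCard _ hf2C).trans h6
    have hd2 : orderOf (f ^ 2) ∣ 2 ^ j := orderOf_dvd_of_pow_eq_one (by rw [← pow_mul, mul_comm, pow_mul, hfo, one_pow])
    obtain ⟨i, -, hi⟩ := (Nat.dvd_prime_pow Nat.prime_two).mp hd2
    rw [hi] at hd
    refine orderOf_dvd_iff_pow_eq_one.mp (hi ▸ ?_)
    rcases i with _ | _ | i
    · norm_num
    · norm_num
    · exfalso
      exact absurd ((Nat.pow_dvd_pow 2 (show 2 ≤ i + 2 by omega)).trans hd) (by norm_num)
  have hx1 : x⁻¹ ≠ x := fun h => by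
    have : x ^ 2 = 1 := by rw [pow_two]; exact mul_eq_one_iff_eq_inv.mpr h.symm
    have := Nat.le_of_dvd (by norm_num) (orderOf_dvd_of_pow_eq_one this)
    omega
  have hfne : f ≠ t := fun h => hx1 (by rw [← hfx, h, htx, mul_inv_cancel_right])
  by_cases hf1 : f ^ 2 = 1
  · refine ⟨f, orderOf_eq_prime hf1 (fun h => hx1 (by rw [← hfx, h]; simp)), hfne, hft.symm, hfx⟩
  exfalso
  have hZ6 : centralizer ({t * x} : Set G) = zpowers (t * x) :=
    (eq_of_le_of_card_ge (zpowers_le.mpr (mem_centralizer_singleton_iff.mpr rfl))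
      (by rw [Nat.card_zpowers, hg6]; exact Nat.le_of_dvd (by norm_num) h6)).symm
  have htxc : Commute t x := htx
  -- otherwise `f ^ 2 = t`
  have hf2t : f ^ 2 = t := by
    rw [hZ6, mem_zpowers_iff_mem_range_orderOf, hg6] at hf2C
    simp only [Finset.mem_image, Finset.mem_range] at hf2C
    obtain ⟨i, hi, he⟩ := hf2C
    have hd : (t * x) ^ (i * 2) = 1 := by rw [pow_mul, he, hf4]
    have hd' := orderOf_dvd_of_pow_eq_one hd
    rw [hg6] at hd'
    have : i = 0 ∨ i = 3 := by omega
    rcases this with rfl | rfl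
    · exact absurd (he.symm.trans (pow_zero _)) hf1
    · rw [← he, htxc.mul_pow, ← hx, pow_orderOf_eq_one, mul_one, hx, pow_succ, ht2, one_mul]
  set Cx := centralizer ({x} : Set G) with hCx
  have htCx : t ∈ Cx := mem_centralizer_singleton_iff.mpr htx
  -- the order of `C(x)`
  have h4x : ¬ 4 ∣ Nat.card Cx := fun h4 => by
    set t' : Cx := ⟨t, htCx⟩
    have hz : Nat.card (zpowers t') = 2 ^ 1 := by rw [Nat.card_zpowers, ← orderOf_coe, pow_one]; exact ht
    obtain ⟨V, hV, hle⟩ := Sylow.exists_subgroup_card_pow_succ (G := Cx) (p := 2) (n := 1) h4 hz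
    have hVc := IsPGroup.commutative_of_card_eq_prime_sq (p := 2) hV
    have hVH : V.map Cx.subtype ≤ centralizer ({t * x} : Set G) := by
      rintro _ ⟨v, hv, rfl⟩
      refine hboth _ ?_ (mem_centralizer_singleton_iff.mp v.2)
      exact congrArg (fun z : V => ((z : Cx) : G)) (hVc ⟨v, hv⟩ ⟨t', hle (mem_zpowers t')⟩)
    have := (card_dvd_of_le hVH).trans h6
    rw [card_map_of_injective Cx.subtype_injective, hV] at this
    norm_num at this
  have h13 : ¬ 13 ∣ Nat.card Cx := fun h => by
    haveI : Fact (Nat.Prime 13) := ⟨by norm_num⟩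
    obtain ⟨y, hy, hy13⟩ := OrdersMid.exists_mem_of_dvd (q := 13) _ h
    have hc : x ∈ centralizer ({y} : Set G) :=
      mem_centralizer_singleton_iff.mpr (mem_centralizer_singleton_iff.mp hy).symm
    have := Subgroup.orderOf_dvd_natCard _ hc
    rw [hx, centralizer_thirteen hG hy13] at this
    norm_num at this
  have h9x : 9 ∣ Nat.card Cx := by
    obtain ⟨V, hV, hle⟩ := Sylow.exists_subgroup_card_pow_succ (G := G) (p := 3) (n := 1) (H := zpowers x)
      (by rw [hG]; norm_num) (by rw [Nat.card_zpowers, hx, pow_one])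
    have hVc := IsPGroup.commutative_of_card_eq_prime_sq (p := 3) hV
    have hVx : V ≤ Cx := fun v hv => mem_centralizer_singleton_iff.mpr
      (congrArg Subtype.val (hVc ⟨v, hv⟩ ⟨x, hle (mem_zpowers x)⟩))
    have := card_dvd_of_le hVx
    rwa [hV] at this
  obtain ⟨K₀⟩ : Nonempty (Sylow 3 Cx) := inferInstance
  obtain ⟨hKidx, hKcard⟩ : (K₀ : Subgroup Cx).index = 2 ∧
      (Nat.card (K₀ : Subgroup Cx) = 9 ∨ Nat.card (K₀ : Subgroup Cx) = 27) := by
    have h2x : 2 ∣ Nat.card Cx := ht ▸ Subgroup.orderOf_dvd_natCard _ htCx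
    have hd : Nat.card Cx ∣ 5616 := hG ▸ card_subgroup_dvd_card _
    have key : ∀ d ∈ Nat.divisors 5616, 2 ∣ d → ¬ 4 ∣ d → ¬ 13 ∣ d → 9 ∣ d → d = 18 ∨ d = 54 := by decide +kernel
    have hmul := (K₀ : Subgroup Cx).index_mul_card
    rcases key _ (Nat.mem_divisors.mpr ⟨hd, by norm_num⟩) h2x h4x h13 h9x with e | e
    · have hc := SimpleTools.card_sylow_subgroup (k := 2) (m := 2) (by rw [e]; norm_num) (by norm_num) K₀
      rw [hc, e] at hmul
      exact ⟨by omega, Or.inl (by rw [hc]; norm_num)⟩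
    · have hc := SimpleTools.card_sylow_subgroup (k := 3) (m := 2) (by rw [e]; norm_num) (by norm_num) K₀
      rw [hc, e] at hmul
      exact ⟨by omega, Or.inr (by rw [hc]; norm_num)⟩
  set K := (K₀ : Subgroup Cx).map Cx.subtype with hK
  have hKc : Nat.card K = 9 ∨ Nat.card K = 27 := by
    rw [hK, card_map_of_injective Cx.subtype_injective]; exact hKcard
  have hKx : ∀ y ∈ K, y * x = x * y := fun y hy => mem_centralizer_singleton_iff.mp (map_subtype_le _ hy)
  have hK27 : ∀ y ∈ K, y ^ 27 = 1 := by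
    intro y hy
    have hd := Subgroup.orderOf_dvd_natCard _ hy
    refine orderOf_dvd_iff_pow_eq_one.mp ?_
    rcases hKc with e | e <;> rw [e] at hd
    · exact hd.trans (by norm_num)
    · exact hd
  have hmemK : ∀ y : G, y * x = x * y → y ^ 27 = 1 → y ∈ K := by
    intro y hy hy27
    refine ⟨(⟨y, mem_centralizer_singleton_iff.mpr hy⟩ : Cx) ^ 14 * (⟨y, mem_centralizer_singleton_iff.mpr hy⟩ : Cx) ^ 14,
      Subgroup.mul_self_mem_of_index_two hKidx _, ?_⟩
    show y ^ 14 * y ^ 14 = y
    rw [← pow_add, show 14 + 14 = 27 + 1 by norm_num, pow_succ, hy27, one_mul]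
  have hx3 : x ^ 3 = 1 := hx ▸ pow_orderOf_eq_one x
  have hxK : x ∈ K := hmemK x rfl (by rw [show 27 = 3 * 9 by norm_num, pow_mul, hx3, one_pow])
  have hXK : zpowers x ≤ K := zpowers_le.mpr hxK
  -- conjugation by `f` and by `t`
  have hfK : ∀ a ∈ K, f * a * f⁻¹ ∈ K := by
    intro a ha
    refine hmemK _ ?_ (by rw [conj_pow, hK27 a ha, mul_one, mul_inv_cancel])
    have e : f * a * f⁻¹ * (f * x⁻¹ * f⁻¹) = f * x⁻¹ * f⁻¹ * (f * a * f⁻¹) := by
      have hc : Commute a x⁻¹ := (show Commute a x from hKx a ha).inv_right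
      rw [show f * a * f⁻¹ * (f * x⁻¹ * f⁻¹) = f * (a * x⁻¹) * f⁻¹ by group, hc.eq]
      group
    rwa [← conj_inv, hfx, inv_inv] at e
  have hfX : ∀ z ∈ zpowers x, f * z * f⁻¹ = z⁻¹ := by
    intro z hz
    obtain ⟨i, rfl⟩ := mem_zpowers_iff.mp hz
    rw [← conj_zpow, hfx, inv_zpow]
  have hff : ∀ a : G, f * (f * a * f⁻¹) * f⁻¹ = t * a * t := by
    intro a
    have e : f * (f * a * f⁻¹) * f⁻¹ = (f ^ 2) * a * (f ^ 2)⁻¹ := by
      rw [pow_two, mul_inv_rev]; simp only [mul_assoc]
    rw [e, hf2t, hti]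
  have hfix : ∀ y ∈ K, y * t = t * y → y ∈ zpowers x := by
    intro y hy hyt
    have hyH := hboth y hyt (hKx y hy)
    rw [hZ6] at hyH
    obtain ⟨i, hi⟩ := mem_zpowers_iff.mp hyH
    refine mem_zpowers_iff.mpr ⟨28 * i, ?_⟩
    calc x ^ (28 * i) = ((t * x) ^ i) ^ (28 : ℕ) := by
          rw [← zpow_natCast ((t * x) ^ i) 28, ← zpow_mul, htxc.mul_zpow, mul_comm i, Nat.cast_ofNat,
            zpow_mul t, show ((28 : ℤ)) = ((2 * 14 : ℕ) : ℤ) by norm_num, zpow_natCast, pow_mul, ht2]
          simp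
      _ = y := by rw [hi, pow_succ, hK27 y hy, one_mul]
  -- `K` modulo `⟨x⟩` is abelian
  have hab : ∀ a ∈ K, ∀ b ∈ K, a * b * a⁻¹ * b⁻¹ ∈ zpowers x := by
    set X' := (zpowers x).subgroupOf K with hX'
    haveI : X'.Normal := ⟨fun n hn g => by
      have hn' : (n : G) ∈ zpowers x := mem_subgroupOf.mp hn
      obtain ⟨i, hi⟩ := mem_zpowers_iff.mp hn'
      have hc : Commute (g : G) (n : G) := hi ▸ (show Commute (g : G) x from hKx g g.2).zpow_right i
      refine mem_subgroupOf.mpr ?_
      show (g : G) * n * (g : G)⁻¹ ∈ zpowers x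
      rwa [hc.eq, mul_inv_cancel_right]⟩
    have hX3 : Nat.card X' = 3 := by
      rw [Nat.card_congr (subgroupOfEquivOfLe hXK).toEquiv, Nat.card_zpowers, hx]
    have hq : Nat.card (K ⧸ X') = 3 ∨ Nat.card (K ⧸ X') = 3 ^ 2 := by
      have h := X'.index_mul_card
      rw [hX3] at h
      rw [← Subgroup.index_eq_card]
      rcases hKc with e | e <;> rw [e] at h <;> omega
    intro a ha b hb
    have hcom : (QuotientGroup.mk (⟨a, ha⟩ : K) : K ⧸ X') * QuotientGroup.mk (⟨b, hb⟩ : K) =
        QuotientGroup.mk (⟨b, hb⟩ : K) * QuotientGroup.mk (⟨a, ha⟩ : K) := by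
      rcases hq with e | e
      · haveI := isCyclic_of_prime_card (α := K ⧸ X') e
        exact IsMulCommutative.is_comm.comm _ _
      · exact IsPGroup.commutative_of_card_eq_prime_sq e _ _
    have h1 : ((⟨a, ha⟩ * ⟨b, hb⟩ * (⟨a, ha⟩ : K)⁻¹ * (⟨b, hb⟩ : K)⁻¹ : K) : K ⧸ X') = 1 := by
      simp only [QuotientGroup.mk_mul, QuotientGroup.mk_inv, hcom]
      group
    exact mem_subgroupOf.mp ((QuotientGroup.eq_one_iff _).mp h1)
  have hXc : ∀ z ∈ zpowers x, ∀ k ∈ K, z * k = k * z := by
    intro z hz k hk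
    obtain ⟨i, rfl⟩ := mem_zpowers_iff.mp hz
    exact ((show Commute k x from hKx k hk).zpow_right i).eq.symm
  have hX3' : ∀ z ∈ zpowers x, z ^ 3 = 1 := by
    intro z hz
    obtain ⟨i, rfl⟩ := mem_zpowers_iff.mp hz
    rw [← zpow_natCast, zpow_comm, zpow_natCast, hx3, one_zpow]
  -- `t` inverts modulo `⟨x⟩`
  have hinv : ∀ a ∈ K, a * (t * a * t) ∈ zpowers x := by
    intro a ha
    have ha' : t * a * t ∈ K := hff a ▸ hfK _ (hfK a ha)
    refine hfix _ (mul_mem ha ha') ?_
    set y := a * (t * a * t) with hy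
    have hz := hab _ ha' _ ha
    have he : t * y * t = (t * a * t * a * (t * a * t)⁻¹ * a⁻¹) * y := by
      rw [hy]
      calc t * (a * (t * a * t)) * t = t * a * t * a * (t * t) := by group
        _ = _ := by rw [← pow_two, ht2, mul_one]; group
    set z := t * a * t * a * (t * a * t)⁻¹ * a⁻¹
    have hzt : t * z = z * t := by
      obtain ⟨i, hi⟩ := mem_zpowers_iff.mp hz
      rw [← hi]
      exact (htxc.zpow_right i).eq
    have h2 : y = z * (z * y) := by
      calc y = t * (t * y * t) * t := by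
            rw [show t * (t * y * t) * t = (t * t) * y * (t * t) by group, ← pow_two, ht2, one_mul, mul_one]
        _ = t * (z * y) * t := by rw [he]
        _ = z * (t * y * t) := by rw [← mul_assoc t z y, hzt]; group
        _ = z * (z * y) := by rw [he]
    have hz1 : z = 1 := by
      have hz2 : z ^ 2 = 1 := by
        have : z * z * y = 1 * y := by rw [one_mul, mul_assoc]; exact h2.symm
        rw [pow_two]; exact mul_right_cancel this
      calc z = z ^ 3 := by rw [pow_succ, hz2, one_mul]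
        _ = 1 := hX3' z hz
    rw [hz1, one_mul] at he
    calc y * t = (t * y * t) * t := by rw [he]
      _ = t * y * (t * t) := by group
      _ = t * y := by rw [← pow_two, ht2, mul_one]
  -- every element commutes with its conjugate under `f`
  have hcomm : ∀ a ∈ K, a * (f * a * f⁻¹) = f * a * f⁻¹ * a := by
    intro a ha
    set b := f * a * f⁻¹ with hb
    have hbK : b ∈ K := hfK a ha
    have hc := hab a ha b hbK
    set c := a * b * a⁻¹ * b⁻¹ with hcdef
    have hz := hinv a ha
    set z := a * (t * a * t) with hzdef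
    have h1 : b * (t * a * t) * b⁻¹ * (t * a * t)⁻¹ = c⁻¹ := by
      rw [← hfX c hc, hcdef, ← hff a, hb]
      group
    have hzb : z * b⁻¹ = b⁻¹ * z := hXc z hz _ (inv_mem hbK)
    have h2 : b * (t * a * t) * b⁻¹ * (t * a * t)⁻¹ = c := by
      have e : t * a * t = a⁻¹ * z := by rw [hzdef]; group
      rw [e]
      calc b * (a⁻¹ * z) * b⁻¹ * (a⁻¹ * z)⁻¹ = b * a⁻¹ * (z * b⁻¹) * z⁻¹ * a := by group
        _ = a⁻¹ * c * a := by rw [hzb, hcdef]; group
        _ = c := by rw [mul_assoc, hXc c hc a ha]; group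
    have hc2 : c * c = 1 := mul_eq_one_iff_eq_inv.mpr (h2.symm.trans h1)
    have hc1 : c = 1 := by
      calc c = c ^ 3 := by rw [pow_succ, pow_two, hc2, one_mul]
        _ = 1 := hX3' c hc
    rw [hcdef] at hc1
    calc a * b = a * b * a⁻¹ * b⁻¹ * (b * a) := by group
      _ = b * a := by rw [hc1, one_mul]
  -- hence every element is central in `K`
  have hcentral : ∀ a ∈ K, a ∉ zpowers x → Nat.card K = 27 ∧ K ≤ centralizer ({a} : Set G) := by
    intro a ha hax
    set b := f * a * f⁻¹ with hb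
    have hbK : b ∈ K := hfK a ha
    have hac : Commute a x := hKx a ha
    set M := zpowers a ⊔ zpowers x with hM
    have hbM : b ∉ M := by
      intro hbm
      have hn : zpowers a ≤ normalizer ((zpowers x : Subgroup G) : Set G) := by
        refine le_trans ?_ (centralizer_le_normalizer _)
        rw [TwoClass.centralizer_zpowers, zpowers_le]
        exact mem_centralizer_singleton_iff.mpr hac.eq
      rw [hM, ← SetLike.mem_coe, Subgroup.coe_mul_of_left_le_normalizer_right _ _ hn] at hbm
      obtain ⟨_, ⟨i, rfl⟩, z, hz, he⟩ := hbm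
      change a ^ i * z = b at he
      have h1 : t * a * t = b ^ i * z⁻¹ := by
        calc t * a * t = f * b * f⁻¹ := (hff a).symm
          _ = f * (a ^ i * z) * f⁻¹ := by rw [he]
          _ = (f * a ^ i * f⁻¹) * (f * z * f⁻¹) := by group
          _ = b ^ i * z⁻¹ := by rw [hfX z hz, hb, conj_zpow]
      have h2 : b ^ i = a ^ (i * i) * z ^ i := by
        rw [← he, ((show Commute z a from hXc z hz a ha).symm.zpow_left i).mul_zpow, ← zpow_mul]
      have h3 : a ^ (i * i + 1) ∈ zpowers x := by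
        have h4 := hinv a ha
        rw [h1, h2] at h4
        have e : a * (a ^ (i * i) * z ^ i * z⁻¹) = a ^ (i * i + 1) * (z ^ i * z⁻¹) := by
          rw [zpow_add_one, (Commute.self_zpow a (i * i)).eq.symm]; group
        rw [e] at h4
        exact (Subgroup.mul_mem_cancel_right _ (mul_mem (zpow_mem hz i) (inv_mem hz))).mp h4
      have hcop : IsCoprime (i * i + 1) ((27 : ℕ) : ℤ) := by
        have h3' : ¬ (3 : ℤ) ∣ i * i + 1 := by
          intro h
          have h' : (i * i + 1) % 3 = 0 := Int.emod_eq_zero_of_dvd h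
          rw [Int.add_emod, Int.mul_emod] at h'
          have h1 := Int.emod_nonneg i (show (3 : ℤ) ≠ 0 by norm_num)
          have h2 := Int.emod_lt_of_pos i (show (0 : ℤ) < 3 by norm_num)
          interval_cases (i % 3) <;> norm_num at h'
        rw [show ((27 : ℕ) : ℤ) = 3 ^ 3 by norm_num]
        exact ((Prime.coprime_iff_not_dvd (Nat.prime_iff_prime_int.mp Nat.prime_three)).mpr h3').symm.pow_right
      obtain ⟨u, v, huv⟩ := hcop
      apply hax
      have : a = (a ^ (i * i + 1)) ^ u := by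
        calc a = a ^ (u * (i * i + 1) + v * ((27 : ℕ) : ℤ)) := by rw [huv, zpow_one]
          _ = (a ^ (i * i + 1)) ^ u * (a ^ ((27 : ℕ) : ℤ)) ^ v := by
            rw [zpow_add, mul_comm u, mul_comm v, zpow_mul, zpow_mul]
          _ = (a ^ (i * i + 1)) ^ u := by rw [zpow_natCast, hK27 a ha, one_zpow, mul_one]
      rw [this]
      exact zpow_mem h3 u
    set CK := K ⊓ centralizer ({a} : Set G) with hCK
    have hMC : M ≤ CK := by
      rw [hM, sup_le_iff, zpowers_le, zpowers_le]
      exact ⟨mem_inf.mpr ⟨ha, mem_centralizer_singleton_iff.mpr rfl⟩,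
        mem_inf.mpr ⟨hxK, mem_centralizer_singleton_iff.mpr hac.eq.symm⟩⟩
    have hbC : b ∈ CK := mem_inf.mpr ⟨hbK, mem_centralizer_singleton_iff.mpr (hcomm a ha).symm⟩
    have hdK : ∀ H ≤ K, Nat.card H = 1 ∨ Nat.card H = 3 ∨ Nat.card H = 9 ∨ Nat.card H = 27 := by
      intro H hH
      have hd : Nat.card H ∣ 27 := (card_dvd_of_le hH).trans (by rcases hKc with e | e <;> rw [e] <;> norm_num)
      have key : ∀ d ∈ Nat.divisors 27, d = 1 ∨ d = 3 ∨ d = 9 ∨ d = 27 := by decide +kernel
      exact key _ (Nat.mem_divisors.mpr ⟨hd, by norm_num⟩)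
    have h1 : 3 < Nat.card M := by
      by_contra hle
      have he := eq_of_le_of_card_ge (show zpowers x ≤ M from le_sup_right) (by rw [Nat.card_zpowers, hx]; omega)
      exact hax (he ▸ (mem_sup_left (mem_zpowers a) : a ∈ M))
    have h2 : Nat.card M < Nat.card CK := by
      rcases lt_or_eq_of_le (Nat.le_of_dvd Nat.card_pos (card_dvd_of_le hMC)) with h | h
      · exact h
      · exact absurd ((eq_of_le_of_card_ge hMC h.ge) ▸ hbC) hbM
    have hle := Nat.le_of_dvd Nat.card_pos (card_dvd_of_le (show CK ≤ K from inf_le_left))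
    have hM' := hdK M (show M ≤ K from hMC.trans inf_le_left)
    have hC' := hdK CK (show CK ≤ K from inf_le_left)
    refine ⟨by omega, ?_⟩
    have he := eq_of_le_of_card_ge (show CK ≤ K from inf_le_left) (by omega)
    exact inf_eq_left.mp he
  obtain ⟨a, ha, hax⟩ : ∃ a ∈ K, a ∉ zpowers x := by
    by_contra hno
    push Not at hno
    have := Nat.le_of_dvd Nat.card_pos (card_dvd_of_le (show K ≤ zpowers x from hno))
    rw [Nat.card_zpowers, hx] at this
    omega
  obtain ⟨P, hP⟩ := (IsPGroup.of_card (n := 3) (show Nat.card K = 3 ^ 3 from (hcentral a ha hax).1) :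
    IsPGroup 3 ↥K).exists_le_sylow
  have hPK : K = (P : Subgroup G) := eq_of_le_of_card_ge hP (by
    rw [(hcentral a ha hax).1, SimpleTools.card_sylow_subgroup (k := 3) (m := 208) (by rw [hG]; norm_num) (by norm_num) P]
    norm_num)
  refine sylow_three_not_comm hG P ⟨⟨fun u v => Subtype.ext ?_⟩⟩
  have hu : (u : G) ∈ K := hPK.symm ▸ u.2
  have hv : (v : G) ∈ K := hPK.symm ▸ v.2
  show (u : G) * v = v * u
  by_cases h : (v : G) ∈ zpowers x
  · exact (hXc _ h _ hu).symm
  · exact mem_centralizer_singleton_iff.mp ((hcentral _ hv h).2 hu)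

include hG in
/-- The frame of `GL(2, 3)`. -/
theorem exists_data : Nonempty (CfsgLib.Recognition.GLTwoThree.Data G) := by
  cases nonempty_fintype G
  haveI : Fact (Nat.Prime 2) := ⟨Nat.prime_two⟩
  haveI : Fact (Nat.Prime 3) := ⟨Nat.prime_three⟩
  obtain ⟨t, ht⟩ := exists_prime_orderOf_dvd_card' (G := G) 2 (by rw [hG]; norm_num)
  set C := centralizer ({t} : Set G)
  have hC : Nat.card C = 48 := card_centralizer_involution hG ht
  obtain ⟨x, hxC, hx⟩ := OrdersMid.exists_mem_of_dvd (q := 3) C (by rw [hC]; norm_num)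
  have htx : t * x = x * t := (mem_centralizer_singleton_iff.mp hxC).symm
  obtain ⟨s, hs, hst, hts, hsx⟩ := exists_inverting_involution hG ht hx htx
  refine ⟨⟨t, x, s, ht, hs, hst, hx, htx, hts, hsx, fun i hi => isConj_involutions hG hi ht, hC, ?_, ?_⟩⟩
  · intro H hH
    refine (card_dvd_of_le fun g hg => mem_centralizer_singleton_iff.mpr ?_).trans
      (card_centralizer_six hG ht hx htx)
    exact ((show Commute g t from (hH g hg).1).mul_right (hH g hg).2).eq
  · intro y hy hyt
    have hyC : y ∈ C := mem_centralizer_singleton_iff.mpr hyt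
    have hall : ∀ Q : Sylow 3 C, Nat.card (Q : Subgroup C) = 3 := fun Q =>
      (SimpleTools.card_sylow_subgroup (k := 1) (m := 16) (by rw [hC]; norm_num) (by norm_num) Q).trans (pow_one 3)
    obtain ⟨Q, hQ⟩ := TwoClass.exists_zpowers (y := (⟨x, hxC⟩ : C)) (by rw [← orderOf_coe]; exact hx) hall
    obtain ⟨R, hR⟩ := TwoClass.exists_zpowers (y := (⟨y, hyC⟩ : C)) (by rw [← orderOf_coe]; exact hy) hall
    obtain ⟨g, hg⟩ := MulAction.exists_smul_eq C R Q
    have hmem : g * (⟨y, hyC⟩ : C) * g⁻¹ ∈ (Q : Subgroup C) := by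
      rw [← hg, Sylow.coe_subgroup_smul, ← hR]
      exact ⟨_, mem_zpowers _, rfl⟩
    rw [← hQ, mem_zpowers_iff_mem_range_orderOf, ← orderOf_coe] at hmem
    simp only [hx, Finset.mem_image, Finset.mem_range] at hmem
    obtain ⟨i, hi, he⟩ := hmem
    have he' : x ^ i = g * y * (g : G)⁻¹ := congrArg Subtype.val he
    have hc : IsConj y (x ^ i) := isConj_iff.mpr ⟨g, he'.symm⟩
    interval_cases i
    · exfalso
      rw [pow_zero, isConj_one_left] at hc
      rw [hc, orderOf_one] at hy
      omega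
    · rwa [pow_one] at hc
    · refine hc.trans ?_
      rw [show x ^ 2 = x⁻¹ from eq_inv_of_mul_eq_one_left (by rw [← pow_succ]; exact orderOf_dvd_iff_pow_eq_one.mp (by rw [hx])), ← hsx]
      exact (isConj_iff.mpr ⟨s, rfl⟩).symm

end Local

/-- A simple group of order 5616 is unique up to isomorphism. -/
theorem nonempty_mulEquiv {G H : Type*} [Group G] [Finite G] [IsSimpleGroup G] (hG : Nat.card G = 5616)
    [Group H] [Finite H] [IsSimpleGroup H] (hH : Nat.card H = 5616) : Nonempty (G ≃* H) := by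
  obtain ⟨D⟩ := exists_data hG
  obtain ⟨D'⟩ := exists_data hH
  obtain ⟨a⟩ := CfsgLib.Recognition.GLTwoThree.nonempty_mulEquiv_SG_of_data hG D
  obtain ⟨b⟩ := CfsgLib.Recognition.GLTwoThree.nonempty_mulEquiv_SG_of_data hH D'
  exact ⟨a.trans b.symm⟩

end CfsgLib.SmallGroups.Order5616
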