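import Cfsg.Agent.Lib.KGroups.M11Local
import Cfsg.Agent.Lib.SmallGroups.OrdersMidTools

/-!
# The principal 13-block of a simple group of order 5616

The block has the degrees `1, 27, 12` and four times `16`; every other character vanishes at the
elements of order thirteen.
-/

set_option autoImplicit false

namespace CfsgLib.SmallGroups.Order5616

open Cfsg CfsgLib.Blocks CfsgLib.KGroups.M11Tools CfsgLib.KGroups.M11Local Subgroup
open CfsgLib.SmallGroups
open scoped Classical ComplexConjugate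

variable {G : Type*} [Group G] [Fintype G] [IsSimpleGroup G] (hG : Nat.card G = 5616)

include hG in
theorem not_comm : ¬ IsMulCommutative G :=
  SimpleTools.not_comm_of_card (by rw [hG]; norm_num)

include hG in
/-- The Sylow normaliser is the Frobenius group of order 39. -/
theorem thirteen [Fact (Nat.Prime 13)] (P : Sylow 13 G) :
    Nat.card (P : Subgroup G) = 13 ∧ Nat.card (normalizer ((P : Subgroup G) : Set G)) = 39 ∧
      Nat.card (centralizer ((P : Subgroup G) : Set G)) = 13 := by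
  have hna := not_comm hG
  have hP : Nat.card (P : Subgroup G) = 13 :=
    (SimpleTools.card_sylow_subgroup (k := 1) (m := 432) (by rw [hG]; norm_num) (by norm_num) P).trans (pow_one _)
  obtain ⟨e, k, he1, hed, hN, hC⟩ := LocalTools.exists_e hna P hP
  have hmem := SimpleTools.card_sylow_mem (p := 13) (k := 1) (m := 432) (G := G) (by rw [hG]; norm_num) (by norm_num)
  rw [show (432 : ℕ).divisors.filter (fun n => n % 13 = 1) = {1, 27, 144} from by decide +kernel] at hmem
  simp only [Finset.mem_insert, Finset.mem_singleton] at hmem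
  have hne := SimpleTools.card_sylow_ne_one (p := 13) hna (hG ▸ by norm_num)
  have hmul := SimpleTools.card_normalizer_mul P
  rw [hN, hG] at hmul
  rcases hmem with h | h | h <;> rw [h] at hmul
  · omega
  · exfalso
    have hek : e * k = 16 := by linarith
    have hk : 2 ∣ k := by
      have hk16 : k ∣ 16 := hek ▸ dvd_mul_left k e
      rcases Nat.eq_zero_or_pos k with h0 | h0
      · exact h0 ▸ dvd_zero 2
      obtain ⟨i, -, rfl⟩ := (Nat.dvd_prime_pow Nat.prime_two).mp (show k ∣ 2 ^ 4 by norm_num; exact hk16)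
      rcases i with _ | i
      · exfalso
        norm_num at hek
        subst hek
        norm_num at hed
      · exact dvd_pow_self 2 (Nat.succ_ne_zero i)
    have : Fact (Nat.Prime 2) := ⟨Nat.prime_two⟩
    obtain ⟨y, hy, hy2⟩ := OrdersMid.exists_mem_of_dvd (q := 2) (centralizer ((P : Subgroup G) : Set G))
      (by rw [hC]; exact hk.mul_left 13)
    obtain ⟨f, -, hf1, hf2, -, hf4⟩ := OrdersMid.exists_fixed hna P hP hy hy2
    have := hf4 rfl
    omega
  · have hek : e * k = 3 := by linarith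
    rcases (Nat.dvd_prime Nat.prime_three).mp (hek ▸ dvd_mul_left k e : k ∣ 3) with rfl | rfl
    · refine ⟨hP, ?_, by rw [hC]⟩
      rw [hN]; omega
    · omega

include hG in
theorem centralizer_thirteen [Fact (Nat.Prime 13)] {u : G} (hu : orderOf u = 13) :
    Nat.card (centralizer ({u} : Set G)) = 13 := by
  obtain ⟨Q, hQ⟩ := (IsPGroup.of_card (n := 1) (by rw [Nat.card_zpowers, hu, pow_one]) :
    IsPGroup 13 ↥(zpowers u)).exists_le_sylow
  have hQz : zpowers u = (Q : Subgroup G) :=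
    Subgroup.eq_of_le_of_card_ge hQ (by rw [(thirteen hG Q).1, Nat.card_zpowers, hu])
  rw [← centralizer_closure, ← zpowers_eq_closure, hQz]
  exact (thirteen hG Q).2.2

include hG in
/-- No involution inverts an element of order thirteen. -/
theorem not_inverted [Fact (Nat.Prime 13)] {u v : G} (hu : orderOf u = 13) (hv : v ^ 2 = 1)
    (h : v * u * v⁻¹ = u⁻¹) : False := by
  obtain ⟨Q, hQ⟩ := (IsPGroup.of_card (n := 1) (by rw [Nat.card_zpowers, hu, pow_one]) :
    IsPGroup 13 ↥(zpowers u)).exists_le_sylow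
  have hQz : zpowers u = (Q : Subgroup G) :=
    Subgroup.eq_of_le_of_card_ge hQ (by rw [(thirteen hG Q).1, Nat.card_zpowers, hu])
  have hvN : v ∈ normalizer ((Q : Subgroup G) : Set G) := by
    rw [← hQz, mem_normalizer_iff]
    have hv' : v⁻¹ = v := inv_eq_of_mul_eq_one_right (by rw [← pow_two, hv])
    intro y
    constructor
    · intro hy
      obtain ⟨i, rfl⟩ := mem_zpowers_iff.mp hy
      rw [← conj_zpow, h]
      exact zpow_mem (inv_mem (mem_zpowers u)) i
    · intro hy
      obtain ⟨i, hi⟩ := mem_zpowers_iff.mp hy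
      refine mem_zpowers_iff.mpr ⟨-i, ?_⟩
      have h2 : v * u ^ (-i) * v⁻¹ = v * y * v⁻¹ := by
        rw [← conj_zpow, h, inv_zpow, zpow_neg, inv_inv]; exact hi
      exact mul_left_cancel (mul_right_cancel h2)
  have hd := Subgroup.orderOf_dvd_natCard _ hvN
  rw [(thirteen hG Q).2.1] at hd
  have hv1 : v = 1 := orderOf_eq_one_iff.mp (Nat.eq_one_of_dvd_coprimes (by norm_num : Nat.Coprime 2 39)
    (orderOf_dvd_of_pow_eq_one hv) hd)
  rw [hv1, one_mul, inv_one, mul_one] at h
  have hu2 : u ^ 2 = 1 := by rw [pow_two]; exact mul_eq_one_iff_eq_inv.mpr h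
  have := Nat.le_of_dvd (by norm_num) (orderOf_dvd_of_pow_eq_one hu2)
  omega

/-- The signed degrees in the block. -/
theorem mem_block {d : ℕ} {s : ℤ} (hs : s = 1 ∨ s = -1) (h2 : 2 ≤ d) (hd : d ∣ 5616) (hd2 : d ^ 2 < 5616)
    (hmod : (d : ℤ) % 13 = s % 13) : (s = 1 ∧ d = 27) ∨ (s = -1 ∧ d = 12) := by
  have hlt : d < 75 := by
    by_contra hge
    have := Nat.pow_le_pow_left (not_lt.mp hge) 2
    omega
  have key : ∀ b < 75, b ∣ 5616 → 2 ≤ b → (b % 13 = 1 → b = 27) ∧ (b % 13 = 12 → b = 12) := by decide +kernel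
  obtain ⟨k1, k2⟩ := key d hlt hd h2
  rcases hs with rfl | rfl
  · exact Or.inl ⟨rfl, k1 (by omega)⟩
  · exact Or.inr ⟨rfl, k2 (by omega)⟩

/-- The data of the block. -/
structure Chars (G : Type*) [Group G] [Fintype G] where
  u : G
  hu : orderOf u = 13
  χa : IrrCharacter G
  χb : IrrCharacter G
  Y : Finset (IrrCharacter G)
  da : charDegree (χa : G → ℂ) = 12
  db : charDegree (χb : G → ℂ) = 27
  cY : Y.card = 4
  dY : ∀ θ ∈ Y, charDegree (θ : G → ℂ) = 16
  hab : χa ≠ χb
  ha1 : χa ≠ trivChar G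
  hb1 : χb ≠ trivChar G
  notMem : trivChar G ∉ Y ∧ χa ∉ Y ∧ χb ∉ Y
  ua : (χa : G → ℂ) u = -1
  ub : (χb : G → ℂ) u = 1
  out : ∀ χ : IrrCharacter G, χ ≠ trivChar G → χ ≠ χa → χ ≠ χb → χ ∉ Y → (χ : G → ℂ) u = 0
  rel : ∀ θ ∈ Y, ∀ g : G, ¬ 13 ∣ orderOf g → (θ : G → ℂ) g = 1 + (χb : G → ℂ) g - (χa : G → ℂ) g

include hG in
theorem exists_chars : Nonempty (Chars G) := by
  haveI : Fact (Nat.Prime 13) := ⟨by norm_num⟩
  have hna := not_comm hG
  obtain ⟨P⟩ : Nonempty (Sylow 13 G) := inferInstance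
  obtain ⟨hP, hN, hC⟩ := thirteen hG P
  obtain ⟨M, hM⟩ := DegreeTools.TISum.exists_pmodular (show Nat.Prime 13 by norm_num)
  obtain ⟨X, Y, εX, ε, hB, hdisj, hX, hY, hXp, hε, hYd, hYeq, hrel⟩ :=
    PrimeOrder.principal_block hM (by norm_num) P hP
  rw [autCard_of P (e := 3) (by rw [hN, hC])] at hX hY hYd
  obtain ⟨x, hxP, hx, hzp⟩ := PrimeOrder.exists_generator P hP
  have htd : charDegree ((trivChar G : IrrCharacter G) : G → ℂ) = 1 := by simp [charDegree]
  have htriv : trivChar G ∈ X := by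
    refine ((hB _).1 (trivChar_mem_principalBlock hM)).resolve_right fun h => ?_
    have h1 := hYd _ h
    rw [htd] at h1
    rcases hε with rfl | rfl <;> simp [Int.modEq_iff_dvd] at h1
  have hxi : ∀ i ∈ Finset.Ico 1 13, ∀ χ ∈ X, (χ : G → ℂ) (x ^ i) = (εX χ : ℂ) := by
    intro i hi χ hχ
    obtain ⟨hpp, hne⟩ := PrimeOrder.isPPart_pow_mul hx (Commute.one_left x)
      (by rw [orderOf_one]; norm_num) hi
    rw [mul_one] at hpp
    exact (hXp χ hχ).2.2 _ _ hpp (pow_mem hxP i) hne
  have hεt : εX (trivChar G) = 1 := by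
    have h := hxi 1 (by simp) _ htriv
    rw [trivChar_apply] at h
    exact_mod_cast h.symm
  set X' := X.erase (trivChar G) with hX'
  obtain ⟨χ₁, χ₂, h12, hX2⟩ := Finset.card_eq_two.mp (show X'.card = 2 by
    rw [hX', Finset.card_erase_of_mem htriv, hX])
  have hsum : ∀ χ : IrrCharacter G, 1 + charDegree (χ : G → ℂ) ^ 2 ≤ 5616 ∨ χ = trivChar G := by
    intro χ
    by_cases h : χ = trivChar G
    · exact Or.inr h
    refine Or.inl ?_
    have := Finset.sum_le_sum_of_subset (f := fun ψ : IrrCharacter G => charDegree (ψ : G → ℂ) ^ 2)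
      (Finset.subset_univ {trivChar G, χ})
    rw [CfsgLib.KGroups.M11Tools.sum_deg_sq, hG, Finset.sum_pair (Ne.symm h), htd] at this
    simpa using this
  have hdeg : ∀ χ ∈ X', (εX χ = 1 ∧ charDegree (χ : G → ℂ) = 27) ∨
      (εX χ = -1 ∧ charDegree (χ : G → ℂ) = 12) := by
    intro χ hχ
    obtain ⟨hne, hχX⟩ := Finset.mem_erase.mp hχ
    obtain ⟨hs, hmod, -⟩ := hXp χ hχX
    have h2 : 2 ≤ charDegree (χ : G → ℂ) := by
      have := charDegree_pos χ
      have : charDegree (χ : G → ℂ) ≠ 1 := fun h => hne (BlockDegrees.eq_trivChar hna χ h)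
      omega
    refine mem_block hs h2 (hG ▸ charDegree_dvd χ) ?_ hmod
    have := (hsum χ).resolve_right hne
    omega
  have hX1 : χ₁ ∈ X' := hX2 ▸ Finset.mem_insert_self _ _
  have hX3 : χ₂ ∈ X' := hX2 ▸ Finset.mem_insert_of_mem (Finset.mem_singleton_self _)
  obtain ⟨θ, hθ⟩ : Y.Nonempty := Finset.card_pos.1 (by rw [hY]; norm_num)
  have hθeq : ∀ η ∈ Y, charDegree (η : G → ℂ) = charDegree (θ : G → ℂ) := fun η hη => by
    have := hYeq η hη θ hθ 1 (by rw [orderOf_one]; norm_num)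
    rw [irr_one_eq, irr_one_eq, Nat.cast_inj] at this
    exact this
  have hy : ε * (charDegree (θ : G → ℂ) : ℤ) =
      1 + (εX χ₁ * (charDegree (χ₁ : G → ℂ) : ℤ) + εX χ₂ * (charDegree (χ₂ : G → ℂ) : ℤ)) := by
    have hr := hrel θ hθ 1 (by rw [orderOf_one]; norm_num)
    rw [← Finset.add_sum_erase _ _ htriv, hεt, ← hX', hX2, Finset.sum_pair h12] at hr
    simp only [irr_one_eq, trivChar_apply, Int.cast_one, mul_one] at hr
    exact_mod_cast hr
  have hθd : charDegree (θ : G → ℂ) ∣ 5616 := hG ▸ charDegree_dvd θ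
  -- the two non-trivial nonexceptional characters
  obtain ⟨χa, χb, hab, hXab, ⟨hsa, hda⟩, ⟨hsb, hdb⟩, hεy, hdy⟩ :
      ∃ χa χb : IrrCharacter G, χa ≠ χb ∧ X' = {χa, χb} ∧
        (εX χa = -1 ∧ charDegree (χa : G → ℂ) = 12) ∧ (εX χb = 1 ∧ charDegree (χb : G → ℂ) = 27) ∧
        ε = 1 ∧ charDegree (θ : G → ℂ) = 16 := by
    rcases hdeg χ₁ hX1 with ⟨s1, d1⟩ | ⟨s1, d1⟩ <;> rcases hdeg χ₂ hX3 with ⟨s2, d2⟩ | ⟨s2, d2⟩ <;>
      rw [s1, d1, s2, d2] at hy
    · exfalso
      rcases hε with rfl | rfl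
      · rw [show charDegree (θ : G → ℂ) = 55 by omega] at hθd; norm_num at hθd
      · omega
    · refine ⟨χ₂, χ₁, h12.symm, by rw [hX2, Finset.pair_comm], ⟨s2, d2⟩, ⟨s1, d1⟩, ?_⟩
      rcases hε with rfl | rfl
      · exact ⟨rfl, by omega⟩
      · omega
    · refine ⟨χ₁, χ₂, h12, hX2, ⟨s1, d1⟩, ⟨s2, d2⟩, ?_⟩
      rcases hε with rfl | rfl
      · exact ⟨rfl, by omega⟩
      · omega
    · exfalso
      rcases hε with rfl | rfl
      · omega
      · rw [show charDegree (θ : G → ℂ) = 23 by omega] at hθd; norm_num at hθd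
  have haX : χa ∈ X' := hXab ▸ Finset.mem_insert_self _ _
  have hbX : χb ∈ X' := hXab ▸ Finset.mem_insert_of_mem (Finset.mem_singleton_self _)
  have hXeq : X = insert (trivChar G) {χa, χb} := by rw [← hXab, hX', Finset.insert_erase htriv]
  have hx1 : ∀ χ ∈ X, (χ : G → ℂ) x = (εX χ : ℂ) := fun χ hχ => by
    have := hxi 1 (by simp) χ hχ
    rwa [pow_one] at this
  refine ⟨⟨x, hx, χa, χb, Y, hda, hdb, by rw [hY], fun η hη => (hθeq η hη).trans hdy, hab,
    (Finset.mem_erase.mp haX).1, (Finset.mem_erase.mp hbX).1,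
    ⟨fun h => Finset.disjoint_left.1 hdisj htriv h,
      fun h => Finset.disjoint_left.1 hdisj (Finset.mem_erase.mp haX).2 h,
      fun h => Finset.disjoint_left.1 hdisj (Finset.mem_erase.mp hbX).2 h⟩, ?_, ?_, ?_, ?_⟩⟩
  · rw [hx1 _ (Finset.mem_erase.mp haX).2, hsa]; norm_num
  · rw [hx1 _ (Finset.mem_erase.mp hbX).2, hsb]; norm_num
  · intro χ hχ1 hχa hχb hχY
    have hχX : χ ∉ X := by rw [hXeq]; simp [hχ1, hχa, hχb]
    set S : IrrCharacter G → ℝ := fun η => ∑ i ∈ Finset.Ico 1 13, ‖(η : G → ℂ) (x ^ i)‖ ^ 2 with hS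
    have htot : ∑ η : IrrCharacter G, S η = 156 := by
      rw [hS, Finset.sum_comm, Finset.sum_congr rfl (g := fun _ => (13 : ℝ)) fun i hi => ?_]
      · simp; norm_num
      · obtain ⟨-, hne⟩ := PrimeOrder.isPPart_pow_mul hx (Commute.one_left x)
          (by rw [orderOf_one]; norm_num) hi
        rw [sum_norm_sq_column]
        have hz : zpowers (x ^ i) = (P : Subgroup G) := PrimeOrder.zpowers_eq P hP (pow_mem hxP i) hne
        rw [← Subgroup.centralizer_closure, ← zpowers_eq_closure, hz, hC]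
        norm_num
    have hXS : ∀ η ∈ X, S η = 12 := fun η hη => by
      simp only [hS]
      rw [Finset.sum_congr rfl (g := fun _ => (1 : ℝ)) fun i hi => by
        rcases (hXp η hη).1 with e | e <;> rw [hxi i hi η hη, e] <;> norm_num]
      simp
    have hYS : ∀ η ∈ Y, 30 ≤ S η := fun η hη => by
      refine le_trans (le_of_eq ?_) (norm_sum_lower η (by norm_num) hx)
      rw [hθeq η hη, hdy]; norm_num
    have hnn : ∀ η, 0 ≤ S η := fun η => Finset.sum_nonneg fun _ _ => by positivity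
    have hle : ∑ η ∈ insert χ (X ∪ Y), S η ≤ 156 :=
      htot ▸ Finset.sum_le_sum_of_subset_of_nonneg (Finset.subset_univ _) fun η _ _ => hnn η
    rw [Finset.sum_insert (by simp [hχX, hχY]), Finset.sum_union hdisj, Finset.sum_congr rfl hXS,
      Finset.sum_const, hX, nsmul_eq_mul] at hle
    have hYle := Finset.card_nsmul_le_sum Y S 30 hYS
    rw [hY, nsmul_eq_mul] at hYle
    norm_num at hle hYle
    have h0 : S χ = 0 := le_antisymm (by linarith) (hnn χ)
    have := (Finset.sum_eq_zero_iff_of_nonneg (fun i _ => by positivity)).mp h0 1 (by simp)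
    simpa using this
  · intro η hη g hg
    have hr := hrel η hη g hg
    rw [hXeq, Finset.sum_insert (by simp [Ne.symm (Finset.mem_erase.mp haX).1, Ne.symm (Finset.mem_erase.mp hbX).1]),
      Finset.sum_pair hab, hεt, hsa, hsb, hεy, trivChar_apply] at hr
    push_cast at hr
    linear_combination hr

end CfsgLib.SmallGroups.Order5616
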